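import Groth.Agent.ParabIncLib.Torus
import Groth.Agent.BorelLib.SelfNormRel
import Groth.Agent.BorelLib.Parab
import Groth.Agent.BorelLib.CentralPreimage
import Groth.Agent.TorsTupleLib.RedRankZero
import Groth.Agent.ToriSchLib.BaseChange
import Mathlib.AlgebraicGeometry.Morphisms.FormallyUnramified
import Mathlib.AlgebraicGeometry.Morphisms.Etale
import Groth.Agent.S16642

/-!
# Elements conjugating a parabolic subgroup of a parabolic subgroup into it
-/

set_option autoImplicit false
set_option linter.style.haveILetI false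
set_option linter.unusedSectionVars false
set_option backward.isDefEq.respectTransparency false
set_option maxHeartbeats 1000000
set_option synthInstance.maxHeartbeats 400000

noncomputable section

universe u

open CategoryTheory CategoryTheory.Limits MonoidalCategory CartesianMonoidalCategory AlgebraicGeometry
open scoped MonObj

attribute [-instance] CategoryTheory.Hom.commGroup

namespace Groth.Agent.ParabInc

open PowEtCentralLib (adjEquiv inc res)

section field

open BorelLib
attribute [local instance] BorelLib.pTop BorelLib.pTopTensor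

variable {k : Type u} [Field k] [IsAlgClosed k] {G : Over (Spec (CommRingCat.of k))} [GrpObj G] [IsAffine G.left]
  [Smooth G.hom] [ConnectedSpace G.left]

/-- A point conjugating a Borel subgroup of a parabolic subgroup into it lies in it. -/
theorem mem_parabolic {P B : Over (Spec (CommRingCat.of k))} [GrpObj P] [GrpObj B] (iP : P ⟶ G) [IsMonHom iP]
    [IsClosedImmersion iP.left] [Smooth P.hom] (b b' : B ⟶ P) (hB : Red.IsBorelOver k (b ≫ iP))
    (g : 𝟙_ (Over (Spec (CommRingCat.of k))) ⟶ G) (hb' : b' ≫ iP = AGF.conjBy g⁻¹ (b ≫ iP)) :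
    ∃ w : 𝟙_ (Over (Spec (CommRingCat.of k))) ⟶ P, w ≫ iP = g := by
  obtain ⟨A, _, _, v, hv, hA, -⟩ := exists_setup G
  haveI := hv; haveI := hA
  haveI := hB.1; haveI := hB.2.1
  haveI : Mono iP := DiagRep.mono_of_isClosedImmersion iP inferInstance
  haveI : QuasiCompact G.hom := inferInstance
  haveI := (isNormalizerOf_parabolic hB).1
  obtain ⟨hKc, hK⟩ := facts_top v
  have hbor := isBor_ptsSub v hB
  let x := (ptEquiv v).symm g
  have hx : ptEquiv v x = g := (ptEquiv v).apply_symm_apply g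
  haveI : IsMonHom (AGF.conjBy (ptEquiv v x⁻¹) (b ≫ iP)) := by
    rw [DiagRep.conjBy_eq_comp]
    haveI := DiagRep.isMonHom_conjBy (ptEquiv v x⁻¹)
    infer_instance
  haveI : IsMonHom (b' ≫ iP) := by rwa [hb', ← hx, ← map_inv]
  have hsub : conjSub x⁻¹ (ptsSub v (b ≫ iP)) ≤ ptsSub v iP := by
    rw [← ptsSub_conjBy v x⁻¹]
    intro y hy
    obtain ⟨β, hβ⟩ := (mem_ptsSub v).1 hy
    refine (mem_ptsSub v).2 ⟨β ≫ b', ?_⟩
    rw [← hβ, Category.assoc, hb', map_inv, hx]
  have hle : ptsSub v (b ≫ iP) ≤ ptsSub v iP := ptsSub_le_of_factor v (f := b) rfl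
  have hin : ∀ {B' : Subgroup (Pt k A)}, IsBor ⊤ B' → B' ≤ ptsSub v iP → IsBor (ptsSub v iP) B' := fun h h' =>
    ⟨h', h.closed, h.conn, h.sol, fun H _ => h.maximal H le_top⟩
  obtain ⟨y, hy, hye⟩ := (hin (hbor.conjSub (a := x⁻¹) trivial) hsub).exists_conj (isClosed_ptsSub v)
    (isPreconnected_ptsSub v) (hin hbor hle)
  rw [conjSub_conjSub] at hye
  have hmem := hbor.mem_of_normalizing_le hKc hK hbor.closed le_rfl hye
  have : x ∈ ptsSub v iP := by
    have h := (ptsSub v iP).mul_mem ((ptsSub v iP).inv_mem (hle hmem)) hy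
    rwa [mul_inv_rev, inv_inv, inv_mul_cancel_right] at h
  obtain ⟨w, hw⟩ := (mem_ptsSub v).1 this
  exact ⟨w, hw.trans hx⟩

end field

variable {S : Scheme.{u}}

/-- The section over the base of an object. -/
def unitOf {S' : Scheme.{u}} (π : S' ⟶ S) : (Over.map π).obj (𝟙_ (Over S')) ⟶ Over.mk π :=
  Over.homMk (𝟙 S') rfl

/-- The section of a base change given by a point. -/
def ptOf {G : Over S} [GrpObj G] {S' : Scheme.{u}} (π : S' ⟶ S) (a : Over.mk π ⟶ G) : 𝟙_ (Over S') ⟶ Red.bc π G :=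
  adjEquiv π (𝟙_ (Over S')) (unitOf π ≫ a)

variable {G : Over S} [GrpObj G]

theorem adjEquiv_comp {A : Over S} [GrpObj A] {S' : Scheme.{u}} (π : S' ⟶ S) {X : Over S'}
    (a : (Over.map π).obj X ⟶ A) (f : A ⟶ G) : adjEquiv π X (a ≫ f) = adjEquiv π X a ≫ (Over.pullback π).map f :=
  (Over.mapPullbackAdj π).homEquiv_naturality_right a f

theorem toUnit_ptOf {S' : Scheme.{u}} (π : S' ⟶ S) (a : Over.mk π ⟶ G) (X : Over S') :
    toUnit X ≫ ptOf π a = adjEquiv π X ((Over.homMk X.hom rfl : (Over.map π).obj X ⟶ Over.mk π) ≫ a) := by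
  refine ((Over.mapPullbackAdj π).homEquiv_naturality_left (toUnit X) (unitOf π ≫ a)).symm.trans ?_
  show adjEquiv π X _ = adjEquiv π X _
  congr 1

/-- Factoring of a point from factoring of the section it defines. -/
theorem factor_of_ptOf {P : Over S} [GrpObj P] (p : P ⟶ G) {S' : Scheme.{u}} (π : S' ⟶ S) (a : Over.mk π ⟶ G)
    (w : 𝟙_ (Over S') ⟶ Red.bc π P) (hw : w ≫ (Over.pullback π).map p = ptOf π a) :
    ∃ l : Over.mk π ⟶ P, l ≫ p = a := by
  let ρ : Over.mk π ⟶ (Over.map π).obj (𝟙_ (Over S')) := Over.homMk (𝟙 S') (by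
    show 𝟙 S' ≫ 𝟙 S' ≫ π = π
    rw [Category.id_comp, Category.id_comp])
  refine ⟨ρ ≫ (adjEquiv π (𝟙_ (Over S'))).symm w, ?_⟩
  have h : (adjEquiv π (𝟙_ (Over S'))).symm w ≫ p = unitOf π ≫ a := by
    apply (adjEquiv π (𝟙_ (Over S'))).injective
    rw [adjEquiv_comp, MulEquiv.apply_symm_apply, hw]; rfl
  rw [Category.assoc, h, ← Category.assoc]
  have e : ρ ≫ unitOf π = 𝟙 (Over.mk π) := Over.OverMorphism.ext (Category.id_comp (𝟙 S'))
  rw [e, Category.id_comp]

variable {P J V : Over S} [GrpObj P] [GrpObj J]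

/-- The conjugate of a subgroup after base change. -/
theorem exists_bc_conj (p : P ⟶ G) (j : J ⟶ P) (g : V ⟶ G) (k₀ : V ⊗ J ⟶ P)
    (hk₀ : k₀ ≫ p = (fst V J ≫ g)⁻¹ * (snd V J ≫ j ≫ p) * (fst V J ≫ g)) {S' : Scheme.{u}} (π : S' ⟶ S)
    (y : Over.mk π ⟶ V) :
    ∃ j' : Red.bc π J ⟶ Red.bc π P,
      j' ≫ (Over.pullback π).map p = AGF.conjBy (ptOf π (y ≫ g))⁻¹ ((Over.pullback π).map (j ≫ p)) := by
  let x : res π J ⟶ Over.mk π := Over.homMk (Red.bc π J).hom rfl
  refine ⟨adjEquiv π (Red.bc π J) (lift (x ≫ y) (inc π J) ≫ k₀), ?_⟩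
  rw [← adjEquiv_comp, Category.assoc, hk₀, MonObj.comp_mul, MonObj.comp_mul, GrpObj.comp_inv,
    lift_fst_assoc, lift_snd_assoc, map_mul, map_mul, map_inv, adjEquiv_inc', Category.assoc]
  rw [AGF.conjBy, GrpObj.comp_inv, inv_inv, toUnit_ptOf]

/-- A point conjugating a parabolic subgroup of a parabolic subgroup into it lies in it. -/
theorem mem_of_conj_sub (hG : Red.IsReductive G) (p : P ⟶ G) (hp : Red.IsParabolic p) (j : J ⟶ P) [IsMonHom j]
    (hj : Red.IsParabolic (j ≫ p)) [Etale V.hom] (g : V ⟶ G) (k₀ : V ⊗ J ⟶ P)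
    (hk₀ : k₀ ≫ p = (fst V J ≫ g)⁻¹ * (snd V J ≫ j ≫ p) * (fst V J ≫ g)) : ∃ w : V ⟶ P, w ≫ p = g := by
  obtain ⟨hpm, hpc, hps, hpg⟩ := hp
  haveI := hpm; haveI := hpc; haveI := hps
  haveI := hG.1; haveI := hG.2.1
  -- the range
  have hrange : ∀ v : V.left, g.left v ∈ Set.range p.left := by
    intro v
    let s : S := V.hom v
    let K := AlgebraicClosure (S.residueField s)
    letI : Algebra (S.residueField s) (V.left.residueField v) := (V.hom.residueFieldMap v).hom.toAlgebra
    haveI : Algebra.IsSeparable (S.residueField s) (V.left.residueField v) :=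
      inferInstanceAs (Algebra.IsSeparable (S.residueField (V.hom.base v)) (V.left.residueField v))
    let σ : V.left.residueField v →ₐ[S.residueField s] K := IsAlgClosed.lift
    let m : Spec (CommRingCat.of K) ⟶ V.left := Spec.map (CommRingCat.ofHom σ.toRingHom) ≫ V.left.fromSpecResidueField v
    have hm : m ≫ V.hom = Red.geomPt s := by
      show (Spec.map _ ≫ _) ≫ V.hom = Spec.map _ ≫ S.fromSpecResidueField s
      rw [Category.assoc, ← Scheme.Hom.SpecMap_residueFieldMap_fromSpecResidueField, ← Spec.map_comp_assoc]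
      congr 2
      ext1
      exact σ.comp_algebraMap
    let y : Over.mk (Red.geomPt s) ⟶ V := Over.homMk m hm
    obtain ⟨j', hj'⟩ := exists_bc_conj p j g k₀ hk₀ (Red.geomPt s) y
    obtain ⟨ha, hs, hc, -⟩ := hG.2.2 s
    haveI := ha; haveI := hs; haveI := hc
    obtain ⟨hm₁, hc₁, hs₁, -⟩ := hpg s
    haveI := hm₁; haveI := hc₁; haveI := hs₁
    obtain ⟨-, -, -, B, _, b, hB⟩ := hj.2.2.2 s
    have hB' : Red.IsBorelOver K ((b ≫ (Over.pullback (Red.geomPt s)).map j) ≫ (Over.pullback (Red.geomPt s)).map p) := by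
      rw [Category.assoc, ← Functor.map_comp]
      exact hB
    obtain ⟨w, hw⟩ := mem_parabolic ((Over.pullback (Red.geomPt s)).map p) (b ≫ (Over.pullback (Red.geomPt s)).map j)
      (b ≫ j') hB' (ptOf (Red.geomPt s) (y ≫ g)) (by
        rw [Category.assoc, hj', DiagRep.conjBy_eq_comp, DiagRep.conjBy_eq_comp (i := (_ ≫ _) ≫ _), Functor.map_comp]
        simp only [Category.assoc])
    obtain ⟨l, hl⟩ := factor_of_ptOf p (Red.geomPt s) (y ≫ g) w hw
    refine ⟨l.left (IsLocalRing.closedPoint K), ?_⟩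
    rw [← Scheme.Hom.comp_apply, ← Over.comp_left, hl]
    show g.left (m (IsLocalRing.closedPoint K)) = g.left v
    congr 1
    show V.left.fromSpecResidueField v _ = v
    exact Scheme.fromSpecResidueField_apply v _
  -- locally a torus
  have hloc : ∀ v : V.left, ∃ (W : Over S) (π : W ⟶ V), Flat π.left ∧ v ∈ Set.range π.left ∧
      ∃ l : W ⟶ P, l ≫ p = π ≫ g := by
    intro v
    obtain ⟨S', f, hf, hvS, T, _, t, htm, ht⟩ := Groth.Agent.S16642.result hG (j ≫ p) hj (V.hom v)
    haveI := hf; haveI := htm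
    let W : Over S := Over.mk f ⊗ V
    let π : W ⟶ V := snd (Over.mk f) V
    let h : W.left ⟶ S' := (fst (Over.mk f) V).left
    have hd : h ≫ f = W.hom := Over.w (fst (Over.mk f) V)
    haveI : Flat π.left := by
      show Flat (pullback.snd f V.hom)
      infer_instance
    have hmem : v ∈ Set.range π.left := by
      obtain ⟨z, hz⟩ := hvS
      obtain ⟨y, -, hy⟩ := Scheme.Pullback.exists_preimage_pullback z v hz (f := f) (g := V.hom)
      exact ⟨y, hy⟩
    refine ⟨W, π, inferInstance, hmem, ?_⟩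
    haveI : IsMonHom (ActBC.bcCompIso h f J hd).hom := ActBC.bcCompIso_isMonHom _ _ _
    haveI := DiagRep.isMonHom_bc_map h t
    haveI := DiagRep.isMonHom_bc_map W.hom j
    haveI : IsMonHom ((Over.pullback W.hom).map p) := DiagRep.isMonHom_bc_map W.hom p
    haveI : IsClosedImmersion ((Over.pullback W.hom).map p).left :=
      MorphismProperty.overPullbackMap (P := @IsClosedImmersion) W.hom p inferInstance
    haveI : Smooth (Red.bc W.hom P).hom := MorphismProperty.pullback_snd (P := @Smooth) _ _ inferInstance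
    haveI : Smooth (Red.bc W.hom G).hom := MorphismProperty.pullback_snd (P := @Smooth) _ _ inferInstance
    haveI := RedRank.isAffineHom_bc G W.hom
    let t₀ : Red.bc h T ⟶ Red.bc W.hom J := (Over.pullback h).map t ≫ (ActBC.bcCompIso h f J hd).hom
    haveI : IsMonHom t₀ := by dsimp only [t₀]; infer_instance
    let t₁ := t₀ ≫ (Over.pullback W.hom).map j
    have e₁ : t₁ ≫ (Over.pullback W.hom).map p = ToriSch.bcTo h hd (t ≫ (Over.pullback f).map (j ≫ p)) := by
      simp only [t₁, t₀, ToriSch.bcTo, Category.assoc]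
      refine Eq.trans ?_ (congrArg (fun a => a ≫ (ActBC.bcCompIso h f G hd).hom)
        ((Over.pullback h).map_comp t ((Over.pullback f).map (j ≫ p)))).symm
      rw [Category.assoc]
      congr 1
      rw [ActBC.bcCompIso_hom_naturality h f hd (j ≫ p), Functor.map_comp]
    have ht₁ : Red.IsMaximalTorus (t₁ ≫ (Over.pullback W.hom).map p) := by
      rw [e₁]
      exact ToriSch.isMaximalTorus_bcTo h hd ht
    have hc₁ : Red.IsCentralizerOf (t₁ ≫ (Over.pullback W.hom).map p) (t₁ ≫ (Over.pullback W.hom).map p) := by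
      haveI := ht₁.1; haveI := ht₁.2.1
      refine ⟨inferInstance, inferInstance, fun X x => ⟨?_, fun hx => ?_⟩⟩
      · rintro ⟨z, rfl⟩ X' y k
        rw [← Category.assoc y, ← MonObj.mul_comp, ← MonObj.mul_comp, RCentre.commute_torus ht₁.2.2.1]
      · exact RCentre.exists_factor_of_selfCent (Red.bc W.hom G) ht₁.2.2.1
          (fun q X' x hx => RCentre.selfCent_geom G (TorsTuple.unipotentRankZero_of_isReductive hG) W.hom ht₁
            (Red.geomPt q) X' x hx) x hx
    let π₀ : Over.mk W.hom ⟶ V := Over.homMk π.left (Over.w π)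
    obtain ⟨j', hj'⟩ := exists_bc_conj p j g k₀ hk₀ W.hom π₀
    have hpt : PointwiseIn ((Over.pullback W.hom).map p) (ptOf W.hom (π₀ ≫ g)) := by
      intro z
      let q : Spec (CommRingCat.of (W.left.residueField z)) ⟶ W.left := W.left.fromSpecResidueField z
      refine ⟨W.left.residueField z, inferInstance, q, ⟨IsLocalRing.closedPoint _,
        Scheme.fromSpecResidueField_apply z _⟩, ?_⟩
      have hr : Set.range (q ≫ π.left ≫ g.left) ⊆ Set.range p.left := by
        rintro _ ⟨a, rfl⟩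
        exact hrange (π.left (q a))
      obtain ⟨l, hl⟩ := AVAmpleLib.exists_lift_of_reduced p.left (q ≫ π.left ≫ g.left) hr
      let l' : (Over.map W.hom).obj (Over.mk q) ⟶ P := Over.homMk l (by
        rw [← Over.w p, ← Category.assoc, hl, Category.assoc, Category.assoc, Over.w g, Over.w π]
        rfl)
      refine ⟨adjEquiv W.hom (Over.mk q) l', ?_⟩
      rw [toUnit_ptOf, ← adjEquiv_comp]
      congr 1
      exact Over.OverMorphism.ext hl
    obtain ⟨w, hw⟩ := mem_of_torus ((Over.pullback W.hom).map p) t₁ (t₀ ≫ j') ht₁ hc₁ (ptOf W.hom (π₀ ≫ g)) (by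
      rw [Category.assoc, hj', DiagRep.conjBy_eq_comp, DiagRep.conjBy_eq_comp (i := t₁ ≫ _), Functor.map_comp]
      simp only [t₁, Category.assoc]) hpt
    obtain ⟨l, hl⟩ := factor_of_ptOf p W.hom (π₀ ≫ g) w hw
    exact ⟨Over.homMk l.left (Over.w l), Over.OverMorphism.ext (congrArg (fun a : Over.mk W.hom ⟶ G => a.left) hl)⟩
  choose W π hflat hmem l hl using hloc
  let X : Scheme.{u} := ∐ fun v => (W v).left
  let c : pullback p.left g.left ⟶ V.left := pullback.snd p.left g.left
  haveI : IsClosedImmersion c := MorphismProperty.pullback_snd (P := @IsClosedImmersion) _ _ inferInstance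
  let q : X ⟶ V.left := Sigma.desc fun v => (π v).left
  haveI : Flat q := IsZariskiLocalAtSource.sigmaDesc hflat
  haveI : Surjective q := ⟨fun v => by
    obtain ⟨z, hz⟩ := hmem v
    exact ⟨Sigma.ι (fun v => (W v).left) v z, by rw [← Scheme.Hom.comp_apply, Sigma.ι_desc]; exact hz⟩⟩
  let σ : X ⟶ pullback p.left g.left := Sigma.desc fun v => pullback.lift (l v).left (π v).left
    (congrArg (fun a : W v ⟶ G => a.left) (hl v))
  haveI : IsIso c := MultLift.isIso_of_factor c q σ (Sigma.hom_ext _ _ fun v => by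
    rw [Sigma.ι_desc_assoc, Sigma.ι_desc, pullback.lift_snd])
  have hw : (inv c ≫ pullback.fst p.left g.left) ≫ p.left = g.left := by
    rw [Category.assoc, pullback.condition, show pullback.snd p.left g.left = c from rfl, IsIso.inv_hom_id_assoc]
  exact ⟨Over.homMk (inv c ≫ pullback.fst p.left g.left) (by rw [← Over.w p, ← Category.assoc, hw, Over.w g]),
    Over.OverMorphism.ext hw⟩

end Groth.Agent.ParabInc

end
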