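import Groth.Agent.RCentreLib.SelfCent
import Groth.Agent.MaxTorConjLib.Main
import Groth.Agent.MaxTorConjLib.Preimage
import Groth.Agent.MaxTorConjLib.MaxBC
import Groth.Agent.PowEtCentralLib.Transport
import Groth.Agent.DiagRepLib.Split
import Groth.Agent.EqNhdLib.Spread
import Groth.Agent.RCentreLib.Torus
import Groth.Agent.S5249
import Groth.Agent.S3006

/-!
# Sections of a subgroup containing a maximal torus, through normalisers of tori
-/

set_option autoImplicit false
set_option linter.style.haveILetI false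
set_option linter.unusedSectionVars false
set_option backward.isDefEq.respectTransparency false
set_option maxHeartbeats 1000000
set_option synthInstance.maxHeartbeats 400000

noncomputable section

universe u

open CategoryTheory CategoryTheory.Limits MonoidalCategory CartesianMonoidalCategory AlgebraicGeometry
open scoped MonObj

attribute [-instance] CategoryTheory.Hom.commGroup

namespace Groth.Agent.ParabInc

open PowEtCentralLib (adjEquiv adjEquiv_inc inc res)

variable {S : Scheme.{u}}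

/-- A section factors through a closed immersion if it does so after a flat surjective base change. -/
theorem factor_of_flat_surjective {G P W : Over S} (p : P ⟶ G) [IsClosedImmersion p.left] (n : 𝟙_ (Over S) ⟶ G)
    [Flat W.hom] [Surjective W.hom] (l : W ⟶ P) (hl : l ≫ p = toUnit W ≫ n) :
    ∃ w : 𝟙_ (Over S) ⟶ P, w ≫ p = n := by
  have hS : n.left ≫ G.hom = 𝟙 S := Over.w n
  have hc : l.left ≫ p.left = W.hom ≫ n.left := congrArg (fun a : W ⟶ G => a.left) hl
  let c : pullback p.left n.left ⟶ S := pullback.snd p.left n.left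
  haveI : IsClosedImmersion c := MorphismProperty.pullback_snd (P := @IsClosedImmersion) _ _ inferInstance
  haveI : IsIso c := MultLift.isIso_of_factor c W.hom (pullback.lift l.left W.hom hc) (pullback.lift_snd _ _ _)
  let w₁ : S ⟶ P.left := inv c ≫ pullback.fst p.left n.left
  have hw₁ : w₁ ≫ p.left = n.left := by
    rw [Category.assoc, pullback.condition, show pullback.snd p.left n.left = c from rfl, IsIso.inv_hom_id_assoc]
  exact ⟨Over.homMk w₁ (by rw [← Over.w p, ← Category.assoc, hw₁]; exact hS), Over.OverMorphism.ext hw₁⟩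

/-- Pointwise membership in a subgroup. -/
def PointwiseIn {G P : Over S} (p : P ⟶ G) (n : 𝟙_ (Over S) ⟶ G) : Prop :=
  ∀ s : S, ∃ (K : Type u) (_ : Field K) (q : Spec (CommRingCat.of K) ⟶ S), s ∈ Set.range q ∧
    ∃ w : Over.mk q ⟶ P, w ≫ p = toUnit (Over.mk q) ≫ n

variable {G P T : Over S} [GrpObj G] [GrpObj P] [GrpObj T] [IsAffineHom G.hom] [Smooth G.hom]

/-- A section normalising a self-centralising torus of a smooth closed subgroup and lying pointwise in it
lies in it. -/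
theorem mem_of_normalizes (p : P ⟶ G) [IsMonHom p] [IsClosedImmersion p.left] [Smooth P.hom]
    (hT : Red.IsTorus T) (t : T ⟶ P) [IsMonHom t] [Mono t] [IsClosedImmersion t.left]
    (hcent : Red.IsCentralizerOf (t ≫ p) (t ≫ p)) (n : 𝟙_ (Over S) ⟶ G)
    (hn : ∃ φ : T ≅ T, (toUnit T ≫ n) * (t ≫ p) * (toUnit T ≫ n)⁻¹ = φ.hom ≫ t ≫ p) (hpt : PointwiseIn p n) :
    ∃ w : 𝟙_ (Over S) ⟶ P, w ≫ p = n := by
  haveI : Mono p := DiagRep.mono_of_isClosedImmersion p inferInstance
  haveI : IsAffineHom P.hom := by rw [← Over.w p]; infer_instance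
  haveI : IsClosedImmersion (t ≫ p).left := by rw [Over.comp_left]; infer_instance
  obtain ⟨-, N, _, nG, hN, hNc, -⟩ := Groth.Agent.S3006.result S G T (t ≫ p) inferInstance hT
  obtain ⟨-, M, _, nP, hM, -, hMs⟩ := Groth.Agent.S3006.result S P T t inferInstance hT
  haveI := hN.1; haveI := hN.2.1; haveI := hM.1; haveI := hM.2.1; haveI := hMs; haveI := hNc
  obtain ⟨k, hk, hko, -⟩ := Groth.Agent.S5249.result T G T N (RedRank.isMultTypeFT_of_isTorus hT) inferInstance
    inferInstance (t ≫ p) (t ≫ p) nG hcent hN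
  haveI := hko
  obtain ⟨φ, hφ⟩ := hn
  have key : ∀ (X : Over S) (h : X ⟶ T),
      (toUnit X ≫ n) * (h ≫ t ≫ p) * (toUnit X ≫ n)⁻¹ = (h ≫ φ.hom) ≫ t ≫ p := by
    intro X h
    rw [Category.assoc, ← hφ, MonObj.comp_mul, MonObj.comp_mul, GrpObj.comp_inv, ← Category.assoc h (toUnit T),
      toUnit_unique (h ≫ toUnit T) (toUnit X)]
  have hnN : ∀ X : Over S, ∃ z : X ⟶ N, z ≫ nG = toUnit X ≫ n := fun X => by
    refine (hN.2.2 X _).2 fun X' x h => ?_
    rw [← Category.assoc, toUnit_unique (x ≫ toUnit X) (toUnit X')]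
    refine ⟨⟨_, key X' h⟩, ⟨h ≫ φ.inv, ?_⟩⟩
    have := key X' (h ≫ φ.inv)
    rw [Category.assoc h φ.inv φ.hom, Iso.inv_hom_id, Category.comp_id] at this
    rw [← this]
    group
  obtain ⟨b, hb⟩ := (hN.2.2 M (nP ≫ p)).2 fun X' x h => by
    obtain ⟨⟨h₁, e₁⟩, ⟨h₂, e₂⟩⟩ := (hM.2.2 M nP).1 ⟨𝟙 M, Category.id_comp nP⟩ X' x h
    refine ⟨⟨h₁, ?_⟩, ⟨h₂, ?_⟩⟩
    · have := congrArg (fun a => a ≫ p) e₁
      simpa only [MonObj.mul_comp, GrpObj.inv_comp, Category.assoc] using this
    · have := congrArg (fun a => a ≫ p) e₂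
      simpa only [MonObj.mul_comp, GrpObj.inv_comp, Category.assoc] using this
  obtain ⟨a, ha⟩ := hnN M
  let d : M ⟶ N := b⁻¹ * a
  let V : M.left.Opens := d.left ⁻¹ᵁ k.left.opensRange
  let W : Over S := Over.mk (V.ι ≫ M.hom)
  let j : W ⟶ M := Over.homMk V.ι rfl
  have hjd : Set.range (j ≫ d).left ⊆ Set.range k.left := by
    rintro _ ⟨z, rfl⟩
    exact z.2
  let τ : W ⟶ T := Over.homMk (IsOpenImmersion.lift k.left (j ≫ d).left hjd)
    (by rw [← Over.w k, ← Category.assoc, IsOpenImmersion.lift_fac, Over.w (j ≫ d)])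
  have hτ : τ ≫ k = j ≫ d := Over.OverMorphism.ext (IsOpenImmersion.lift_fac _ _ _)
  have hW : toUnit W ≫ n = ((j ≫ nP) * (τ ≫ t)) ≫ p := by
    have h1 : (j ≫ d) ≫ nG = (j ≫ nP ≫ p)⁻¹ * (toUnit W ≫ n) := by
      rw [Category.assoc, show d ≫ nG = (nP ≫ p)⁻¹ * (toUnit M ≫ n) by
        simp only [d, MonObj.mul_comp, GrpObj.inv_comp, hb, ha]]
      rw [MonObj.comp_mul, GrpObj.comp_inv, ← Category.assoc j (toUnit M), toUnit_unique (j ≫ toUnit M) (toUnit W)]
    rw [← hτ, Category.assoc, hk] at h1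
    rw [MonObj.mul_comp, Category.assoc, Category.assoc, h1, mul_inv_cancel_left]
  haveI : Flat W.hom := by show Flat (V.ι ≫ M.hom); infer_instance
  haveI : Surjective W.hom := ⟨fun s => by
    obtain ⟨K, _, q, ⟨z, hz⟩, y, hy⟩ := hpt s
    have hy' : ∀ {X' : Over S} (x : X' ⟶ Over.mk q) (h : X' ⟶ T),
        ((x ≫ y) * (h ≫ t) * (x ≫ y)⁻¹ = (h ≫ φ.hom) ≫ t) := fun {X'} x h => by
      rw [← cancel_mono p, MonObj.mul_comp, MonObj.mul_comp, GrpObj.inv_comp, Category.assoc x y p, hy,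
        ← Category.assoc x, toUnit_unique (x ≫ toUnit (Over.mk q)) (toUnit X'), Category.assoc h t p, key,
        Category.assoc, Category.assoc, Category.assoc]
    obtain ⟨w, hw⟩ := (hM.2.2 (Over.mk q) y).2 fun X' x h => by
      refine ⟨⟨_, hy' x h⟩, ⟨h ≫ φ.inv, ?_⟩⟩
      have := hy' x (h ≫ φ.inv)
      rw [Category.assoc h φ.inv φ.hom, Iso.inv_hom_id, Category.comp_id] at this
      rw [← this]
      group
    have hwd : w ≫ d = 1 := by
      rw [← cancel_mono nG, MonObj.one_comp, Category.assoc, show d ≫ nG = (nP ≫ p)⁻¹ * (toUnit M ≫ n) by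
        simp only [d, MonObj.mul_comp, GrpObj.inv_comp, hb, ha], MonObj.comp_mul, GrpObj.comp_inv,
        ← Category.assoc w nP, hw, hy, ← Category.assoc w, toUnit_unique (w ≫ toUnit M) (toUnit (Over.mk q)),
        inv_mul_cancel]
    have hz' : w.left z ∈ V := by
      show d.left (w.left z) ∈ Set.range k.left
      rw [← Scheme.Hom.comp_apply, ← Over.comp_left, hwd]
      refine ⟨(1 : Over.mk q ⟶ T).left z, ?_⟩
      rw [← Scheme.Hom.comp_apply, ← Over.comp_left]
      haveI : IsMonHom (k ≫ nG) := by rw [hk]; infer_instance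
      haveI : IsMonHom k := DiagRep.isMonHom_of_comp_mono k nG
      rw [MonObj.one_comp]
    refine ⟨⟨w.left z, hz'⟩, ?_⟩
    show M.hom (w.left z) = s
    rw [← Scheme.Hom.comp_apply, Over.w w]
    exact hz⟩
  exact factor_of_flat_surjective p n ((j ≫ nP) * (τ ≫ t)) hW.symm

omit [IsAffineHom G.hom] [Smooth G.hom] in
theorem adjEquiv_inc' {S' : Scheme.{u}} (f : S' ⟶ S) {H : Over S} (x : H ⟶ G) :
    adjEquiv f (Red.bc f H) (inc f H ≫ x) = (Over.pullback f).map x := by
  show (Over.mapPullbackAdj f).homEquiv _ _ _ = _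
  rw [Adjunction.homEquiv_naturality_right, Adjunction.homEquiv_unit, Category.assoc]
  exact (Adjunction.right_triangle_components_assoc (Over.mapPullbackAdj f) H _)

/-- Conjugation commutes with base change. -/
theorem map_conjBy {S' : Scheme.{u}} (f : S' ⟶ S) {H : Over S} (g : 𝟙_ (Over S) ⟶ G) (i : H ⟶ G) :
    (Over.pullback f).map (AGF.conjBy g i) =
      AGF.conjBy (adjEquiv f (𝟙_ (Over S')) (toUnit _ ≫ g)) ((Over.pullback f).map i) := by
  have hg : ∀ (Y : Over S'), adjEquiv f Y (toUnit _ ≫ g) =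
      toUnit Y ≫ adjEquiv f (𝟙_ (Over S')) (toUnit _ ≫ g) := fun Y => by
    rw [show toUnit ((Over.map f).obj Y) ≫ g =
      (Over.map f).map (toUnit Y) ≫ (toUnit ((Over.map f).obj (𝟙_ (Over S'))) ≫ g) by
        rw [← Category.assoc, comp_toUnit]]
    exact (Over.mapPullbackAdj f).homEquiv_naturality_left _ _
  rw [← adjEquiv_inc' (G := G) f (AGF.conjBy g i), AGF.conjBy, MonObj.comp_mul, MonObj.comp_mul, GrpObj.comp_inv,
    map_mul, map_mul, map_inv, ← Category.assoc (inc f H) (toUnit H) g, toUnit_unique (inc f H ≫ toUnit H) (toUnit (res f H)), adjEquiv_inc',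
    hg]

/-- Pointwise membership is stable under base change. -/
theorem pointwiseIn_bc {S' : Scheme.{u}} (f : S' ⟶ S) (p : P ⟶ G) (g : 𝟙_ (Over S) ⟶ G) (h : PointwiseIn p g) :
    PointwiseIn ((Over.pullback f).map p) (adjEquiv f (𝟙_ (Over S')) (toUnit _ ≫ g)) := by
  intro x
  obtain ⟨K, _, q, ⟨z, hz⟩, w, hw⟩ := h (f x)
  obtain ⟨y, hy1, -⟩ := Scheme.Pullback.exists_preimage_pullback x z hz.symm (f := f) (g := q)
  let P₀ := pullback f q
  let ι₀ := P₀.fromSpecResidueField y
  let q' : Spec (P₀.residueField y) ⟶ S' := ι₀ ≫ pullback.fst f q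
  refine ⟨P₀.residueField y, inferInstance, q', ⟨IsLocalRing.closedPoint _, ?_⟩, ?_⟩
  · show pullback.fst f q (ι₀ _) = x
    rw [show ι₀ (IsLocalRing.closedPoint _) = y from P₀.fromSpecResidueField_apply y _, hy1]
  let e : (Over.map f).obj (Over.mk q') ⟶ Over.mk q := Over.homMk (ι₀ ≫ pullback.snd f q) (by
    show (ι₀ ≫ pullback.snd f q) ≫ q = q' ≫ f
    rw [Category.assoc, ← pullback.condition, Category.assoc])
  refine ⟨adjEquiv f (Over.mk q') (e ≫ w), ?_⟩
  refine ((Over.mapPullbackAdj f).homEquiv_naturality_right (e ≫ w) p).symm.trans ?_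
  rw [Category.assoc, hw, ← Category.assoc, toUnit_unique (e ≫ toUnit (Over.mk q)) (toUnit _)]
  rw [show toUnit ((Over.map f).obj (Over.mk q')) ≫ g =
      (Over.map f).map (toUnit (Over.mk q')) ≫ (toUnit ((Over.map f).obj (𝟙_ (Over S'))) ≫ g) by
        rw [← Category.assoc, comp_toUnit]]
  exact (Over.mapPullbackAdj f).homEquiv_naturality_left _ _

omit [GrpObj P] in
/-- A maximal torus of a group inside a subgroup is maximal in the subgroup. -/
theorem isMaximalTorus_of_comp (p : P ⟶ G) [GrpObj P] [IsMonHom p] [Mono p] (t : T ⟶ P) [IsMonHom t]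
    (h : Red.IsMaximalTorus (t ≫ p)) : Red.IsMaximalTorus t := by
  obtain ⟨-, hm, hT, hmax⟩ := h
  haveI := hm
  refine ⟨inferInstance, mono_of_mono t p, hT, fun s T' _ j hj hjm f hT' hf => ?_⟩
  haveI := DiagRep.isMonHom_bc_map (Red.geomPt s) p
  haveI := BorelLib.mono_bc (Red.geomPt s) p
  exact hmax s T' (j ≫ (Over.pullback (Red.geomPt s)).map p) f hT' (by rw [← Category.assoc, hf, ← Functor.map_comp])

/-- The key: a section lying pointwise in a smooth closed subgroup and carrying one of its maximal tori of the group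
into it lies in it. -/
theorem mem_of_torus (p : P ⟶ G) [IsMonHom p] [IsClosedImmersion p.left]
    [Smooth P.hom] (t₁ t₂ : T ⟶ P) [IsMonHom t₁] (h₁ : Red.IsMaximalTorus (t₁ ≫ p))
    (hc₁ : Red.IsCentralizerOf (t₁ ≫ p) (t₁ ≫ p)) (g : 𝟙_ (Over S) ⟶ G)
    (h₂ : t₂ ≫ p = AGF.conjBy g⁻¹ (t₁ ≫ p)) (hpt : PointwiseIn p g) : ∃ w : 𝟙_ (Over S) ⟶ P, w ≫ p = g := by
  haveI : Mono p := DiagRep.mono_of_isClosedImmersion p inferInstance
  haveI : IsAffineHom P.hom := by rw [← Over.w p]; infer_instance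
  haveI := DiagRep.isIso_conjBy g⁻¹
  let c : G ≅ G := asIso (AGF.conjBy g⁻¹ (𝟙 G))
  haveI : IsMonHom c.hom := DiagRep.isMonHom_conjBy g⁻¹
  have hi₂ : Red.IsMaximalTorus (t₂ ≫ p) := by
    rw [h₂, DiagRep.conjBy_eq_comp]
    exact MaxTorConj.isMaximalTorus_iso c h₁
  haveI : IsMonHom (t₂ ≫ p) := hi₂.1
  haveI : IsMonHom t₂ := DiagRep.isMonHom_of_comp_mono t₂ p
  obtain ⟨S', f, hfe, hfs, h, φ, hφ⟩ := MaxTorConj.exists_conj_etale t₁ t₂ (isMaximalTorus_of_comp p t₁ h₁)
    (isMaximalTorus_of_comp p t₂ hi₂)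
  haveI := hfe; haveI := hfs
  let P' := Red.bc f P
  let G' := Red.bc f G
  let p' : P' ⟶ G' := (Over.pullback f).map p
  haveI : IsMonHom p' := DiagRep.isMonHom_bc_map f p
  haveI : IsClosedImmersion p'.left := MorphismProperty.overPullbackMap (P := @IsClosedImmersion) f p inferInstance
  haveI : Mono p' := DiagRep.mono_of_isClosedImmersion p' inferInstance
  haveI : Smooth P'.hom := MorphismProperty.pullback_snd (P := @Smooth) _ _ inferInstance
  haveI : Smooth G'.hom := MorphismProperty.pullback_snd (P := @Smooth) _ _ inferInstance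
  haveI := RedRank.isAffineHom_bc G f
  let t : Red.bc f T ⟶ P' := (Over.pullback f).map t₁
  haveI : IsMonHom t := DiagRep.isMonHom_bc_map f t₁
  have ht : Red.IsMaximalTorus (t ≫ p') := by
    rw [← Functor.map_comp]
    exact RCentre.isMaximalTorus_bc h₁ f
  haveI := ht.1; haveI := ht.2.1
  haveI : Mono t := mono_of_mono t p'
  haveI : IsClosedImmersion (t ≫ p').left :=
    Transporter.isClosedImmersion_of_mono (RedRank.locally_of_isTorus ht.2.2.1) inferInstance (t ≫ p')
  haveI : IsClosedImmersion t.left := by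
    haveI : IsClosedImmersion (t.left ≫ p'.left) := by rw [← Over.comp_left]; infer_instance
    exact IsClosedImmersion.of_comp t.left p'.left
  let g' : 𝟙_ (Over S') ⟶ G' := adjEquiv f (𝟙_ (Over S')) (toUnit _ ≫ g)
  let n : 𝟙_ (Over S') ⟶ G' := g' * (h ≫ p')
  have hcent : Red.IsCentralizerOf (t ≫ p') (t ≫ p') := by
    rw [← Functor.map_comp]
    exact MaxTorusRank.isCentralizerOf_bc hc₁ f
  have hconj₂ : ((Over.pullback f).map t₂) ≫ p' = AGF.conjBy g'⁻¹ (t ≫ p') := by
    rw [← Functor.map_comp, h₂, map_conjBy, GrpObj.comp_inv, map_inv]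
    simp only [t, p', g', Functor.map_comp]
  have hn : ∃ ψ : Red.bc f T ≅ Red.bc f T,
      (toUnit _ ≫ n) * (t ≫ p') * (toUnit _ ≫ n)⁻¹ = ψ.hom ≫ t ≫ p' := by
    refine ⟨φ, ?_⟩
    have e := congrArg (fun a => a ≫ p') hφ
    simp only [MonObj.mul_comp, GrpObj.inv_comp, Category.assoc] at e
    rw [show ((Over.pullback f).map t₂) ≫ p' = _ from hconj₂] at e
    rw [show φ.hom ≫ AGF.conjBy g'⁻¹ (t ≫ p') =
      (toUnit (Red.bc f T) ≫ g')⁻¹ * (φ.hom ≫ t ≫ p') * (toUnit (Red.bc f T) ≫ g') by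
        rw [AGF.conjBy, MonObj.comp_mul, MonObj.comp_mul, GrpObj.comp_inv, GrpObj.comp_inv, inv_inv,
          ← Category.assoc φ.hom, toUnit_unique (φ.hom ≫ toUnit _) (toUnit _)]] at e
    have e' := congrArg (fun a => (toUnit (Red.bc f T) ≫ g') * a * (toUnit (Red.bc f T) ≫ g')⁻¹) e
    simp only [_root_.mul_assoc, mul_inv_cancel_left, mul_inv_cancel, _root_.mul_one] at e'
    rw [show toUnit (Red.bc f T) ≫ n = (toUnit _ ≫ g') * (toUnit _ ≫ h ≫ p') from MonObj.comp_mul _ _ _, mul_inv_rev]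
    simpa only [t, _root_.mul_assoc] using e'
  have hptn : PointwiseIn p' n := fun x => by
    obtain ⟨K, _, q, hq, w, hw⟩ := pointwiseIn_bc f p g hpt x
    exact ⟨K, inferInstance, q, hq, w * (toUnit _ ≫ h), by
      rw [MonObj.mul_comp, hw, MonObj.comp_mul, Category.assoc]⟩
  obtain ⟨w, hw⟩ := mem_of_normalizes p' ht.2.2.1 t hcent n hn hptn
  have hg' : (w * h⁻¹) ≫ p' = g' := by
    rw [MonObj.mul_comp, GrpObj.inv_comp, hw, mul_inv_cancel_right]
  haveI : Flat ((Over.map f).obj (𝟙_ (Over S'))).hom := by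
    show Flat (𝟙 S' ≫ f)
    infer_instance
  haveI : Surjective ((Over.map f).obj (𝟙_ (Over S'))).hom := by
    show Surjective (𝟙 S' ≫ f)
    rw [Category.id_comp]
    infer_instance
  refine factor_of_flat_surjective p g ((adjEquiv f (𝟙_ (Over S'))).symm (w * h⁻¹)) ?_
  apply (adjEquiv f (𝟙_ (Over S'))).injective
  refine ((Over.mapPullbackAdj f).homEquiv_naturality_right _ p).trans ?_
  show adjEquiv f _ ((adjEquiv f (𝟙_ (Over S'))).symm (w * h⁻¹)) ≫ p' = g'
  rw [MulEquiv.apply_symm_apply, hg']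

end Groth.Agent.ParabInc

end
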